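import Cfsg.Agent.SporB.Fi24.Sp.Data

set_option autoImplicit false
set_option maxRecDepth 100000

namespace Cfsg.Agent.CosetEnum.Fi24.Sp

theorem fok60 : sys.checkFacts 11515 37 fv60 = true := by decide +kernel
theorem fok61 : sys.checkFacts 11552 78 fv61 = true := by decide +kernel
theorem fok62 : sys.checkFacts 11630 88 fv62 = true := by decide +kernel
theorem fok63 : sys.checkFacts 11718 87 fv63 = true := by decide +kernel
theorem fok64 : sys.checkFacts 11805 91 fv64 = true := by decide +kernel
theorem fok65 : sys.checkFacts 11896 89 fv65 = true := by decide +kernel
theorem fok66 : sys.checkFacts 11985 86 fv66 = true := by decide +kernel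
theorem fok67 : sys.checkFacts 12071 85 fv67 = true := by decide +kernel
theorem fok68 : sys.checkFacts 12156 50 fv68 = true := by decide +kernel
theorem fok69 : sys.checkFacts 12206 86 fv69 = true := by decide +kernel
theorem fok70 : sys.checkFacts 12292 100 fv70 = true := by decide +kernel
theorem fok71 : sys.checkFacts 12392 93 fv71 = true := by decide +kernel
theorem fok72 : sys.checkFacts 12485 72 fv72 = true := by decide +kernel
theorem fok73 : sys.checkFacts 12557 50 fv73 = true := by decide +kernel
theorem fok74 : sys.checkFacts 12607 89 fv74 = true := by decide +kernel
theorem fok75 : sys.checkFacts 12696 91 fv75 = true := by decide +kernel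
theorem fok76 : sys.checkFacts 12787 87 fv76 = true := by decide +kernel
theorem fok77 : sys.checkFacts 12874 87 fv77 = true := by decide +kernel
theorem fok78 : sys.checkFacts 12961 89 fv78 = true := by decide +kernel
theorem fok79 : sys.checkFacts 13050 90 fv79 = true := by decide +kernel
theorem fok80 : sys.checkFacts 13140 83 fv80 = true := by decide +kernel
theorem fok81 : sys.checkFacts 13223 84 fv81 = true := by decide +kernel
theorem fok82 : sys.checkFacts 13307 85 fv82 = true := by decide +kernel
theorem fok83 : sys.checkFacts 13392 85 fv83 = true := by decide +kernel
theorem fok84 : sys.checkFacts 13477 83 fv84 = true := by decide +kernel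
theorem fok85 : sys.checkFacts 13560 82 fv85 = true := by decide +kernel
theorem fok86 : sys.checkFacts 13642 80 fv86 = true := by decide +kernel
theorem fok87 : sys.checkFacts 13722 80 fv87 = true := by decide +kernel
theorem fok88 : sys.checkFacts 13802 91 fv88 = true := by decide +kernel
theorem fok89 : sys.checkFacts 13893 93 fv89 = true := by decide +kernel
theorem fok90 : sys.checkFacts 13986 88 fv90 = true := by decide +kernel
theorem fok91 : sys.checkFacts 14074 84 fv91 = true := by decide +kernel
theorem fok92 : sys.checkFacts 14158 92 fv92 = true := by decide +kernel
theorem fok93 : sys.checkFacts 14250 86 fv93 = true := by decide +kernel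
theorem fok94 : sys.checkFacts 14336 83 fv94 = true := by decide +kernel
theorem fok95 : sys.checkFacts 14419 89 fv95 = true := by decide +kernel
theorem fok96 : sys.checkFacts 14508 81 fv96 = true := by decide +kernel
theorem fok97 : sys.checkFacts 14589 81 fv97 = true := by decide +kernel
theorem fok98 : sys.checkFacts 14670 93 fv98 = true := by decide +kernel
theorem fok99 : sys.checkFacts 14763 89 fv99 = true := by decide +kernel
theorem fok100 : sys.checkFacts 14852 97 fv100 = true := by decide +kernel
theorem fok101 : sys.checkFacts 14949 98 fv101 = true := by decide +kernel
theorem fok102 : sys.checkFacts 15047 86 fv102 = true := by decide +kernel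
theorem fok103 : sys.checkFacts 15133 83 fv103 = true := by decide +kernel
theorem fok104 : sys.checkFacts 15216 83 fv104 = true := by decide +kernel
theorem fok105 : sys.checkFacts 15299 82 fv105 = true := by decide +kernel
theorem fok106 : sys.checkFacts 15381 85 fv106 = true := by decide +kernel
theorem fok107 : sys.checkFacts 15466 91 fv107 = true := by decide +kernel
theorem fok108 : sys.checkFacts 15557 86 fv108 = true := by decide +kernel
theorem fok109 : sys.checkFacts 15643 84 fv109 = true := by decide +kernel
theorem fok110 : sys.checkFacts 15727 83 fv110 = true := by decide +kernel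
theorem fok111 : sys.checkFacts 15810 90 fv111 = true := by decide +kernel
theorem fok112 : sys.checkFacts 15900 85 fv112 = true := by decide +kernel
theorem fok113 : sys.checkFacts 15985 84 fv113 = true := by decide +kernel
theorem fok114 : sys.checkFacts 16069 85 fv114 = true := by decide +kernel
theorem fok115 : sys.checkFacts 16154 95 fv115 = true := by decide +kernel
theorem fok116 : sys.checkFacts 16249 87 fv116 = true := by decide +kernel
theorem fok117 : sys.checkFacts 16336 97 fv117 = true := by decide +kernel
theorem fok118 : sys.checkFacts 16433 82 fv118 = true := by decide +kernel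
theorem fok119 : sys.checkFacts 16515 84 fv119 = true := by decide +kernel

end Cfsg.Agent.CosetEnum.Fi24.Sp
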