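import Cfsg.Agent.SporB.Fi24.Sp.Data

set_option autoImplicit false
set_option maxRecDepth 100000

namespace Cfsg.Agent.CosetEnum.Fi24.Sp

theorem fok120 : sys.checkFacts 16599 89 fv120 = true := by decide +kernel
theorem fok121 : sys.checkFacts 16688 86 fv121 = true := by decide +kernel
theorem fok122 : sys.checkFacts 16774 86 fv122 = true := by decide +kernel
theorem fok123 : sys.checkFacts 16860 83 fv123 = true := by decide +kernel
theorem fok124 : sys.checkFacts 16943 83 fv124 = true := by decide +kernel
theorem fok125 : sys.checkFacts 17026 84 fv125 = true := by decide +kernel
theorem fok126 : sys.checkFacts 17110 87 fv126 = true := by decide +kernel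
theorem fok127 : sys.checkFacts 17197 92 fv127 = true := by decide +kernel
theorem fok128 : sys.checkFacts 17289 80 fv128 = true := by decide +kernel
theorem fok129 : sys.checkFacts 17369 82 fv129 = true := by decide +kernel
theorem fok130 : sys.checkFacts 17451 82 fv130 = true := by decide +kernel
theorem fok131 : sys.checkFacts 17533 83 fv131 = true := by decide +kernel
theorem fok132 : sys.checkFacts 17616 84 fv132 = true := by decide +kernel
theorem fok133 : sys.checkFacts 17700 83 fv133 = true := by decide +kernel
theorem fok134 : sys.checkFacts 17783 95 fv134 = true := by decide +kernel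
theorem fok135 : sys.checkFacts 17878 100 fv135 = true := by decide +kernel
theorem fok136 : sys.checkFacts 17978 66 fv136 = true := by decide +kernel

end Cfsg.Agent.CosetEnum.Fi24.Sp
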