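import Cfsg.Agent.SporB.Fi24.Sp.Check0
import Cfsg.Agent.SporB.Fi24.Sp.Check1
import Cfsg.Agent.SporB.Fi24.Sp.Check2
import Cfsg.Agent.Lib.CosetEnum.Local

set_option autoImplicit false
set_option maxRecDepth 100000

namespace Cfsg.Agent.CosetEnum.Fi24.Sp

theorem dok0 : allRange sys.checkDef 0 2000 = true := by decide +kernel
theorem dok1 : allRange sys.checkDef 2000 2000 = true := by decide +kernel
theorem dok2 : allRange sys.checkDef 4000 2000 = true := by decide +kernel
theorem dok3 : allRange sys.checkDef 6000 320 = true := by decide +kernel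
def dchunks : List ℕ := [2000,2000,2000,320]
def fchunks : List (ℕ × ℕ) := [(62, fv0), (72, fv1), (77, fv2), (65, fv3), (68, fv4), (64, fv5), (59, fv6), (58, fv7), (67, fv8), (90, fv9), (99, fv10), (100, fv11), (93, fv12), (93, fv13), (93, fv14), (92, fv15), (100, fv16), (93, fv17), (93, fv18), (92, fv19), (95, fv20), (88, fv21), (90, fv22), (92, fv23), (99, fv24), (100, fv25), (92, fv26), (89, fv27), (97, fv28), (92, fv29), (92, fv30), (96, fv31), (97, fv32), (93, fv33), (94, fv34), (98, fv35), (97, fv36), (89, fv37), (83, fv38), (95, fv39), (90, fv40), (73, fv41), (96, fv42), (99, fv43), (96, fv44), (93, fv45), (94, fv46), (94, fv47), (96, fv48), (94, fv49), (86, fv50), (74, fv51), (89, fv52), (92, fv53), (83, fv54), (84, fv55), (76, fv56), (65, fv57), (87, fv58), (36, fv59), (37, fv60), (78, fv61), (88, fv62), (87, fv63), (91, fv64), (89, fv65), (86, fv66), (85, fv67), (50, fv68), (86, fv69), (100, fv70), (93, fv71), (72, fv72), (50, fv73), (89, fv74), (91, fv75), (87, fv76), (87, fv77), (89, fv78), (90, fv79), (83, fv80), (84, fv81), (85,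 fv82), (85, fv83), (83, fv84), (82, fv85), (80, fv86), (80, fv87), (91, fv88), (93, fv89), (88, fv90), (84, fv91), (92, fv92), (86, fv93), (83, fv94), (89, fv95), (81, fv96), (81, fv97), (93, fv98), (89, fv99), (97, fv100), (98, fv101), (86, fv102), (83, fv103), (83, fv104), (82, fv105), (85, fv106), (91, fv107), (86, fv108), (84, fv109), (83, fv110), (90, fv111), (85, fv112), (84, fv113), (85, fv114), (95, fv115), (87, fv116), (97, fv117), (82, fv118), (84, fv119), (89, fv120), (86, fv121), (86, fv122), (83, fv123), (83, fv124), (84, fv125), (87, fv126), (92, fv127), (80, fv128), (82, fv129), (82, fv130), (83, fv131), (84, fv132), (83, fv133), (95, fv134), (100, fv135), (66, fv136)]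
theorem defsOK : sys.DefsOK 0 dchunks := ⟨dok0, dok1, dok2, dok3, trivial⟩
theorem factsOK : sys.FactsOK 6320 fchunks := ⟨fok0, fok1, fok2, fok3, fok4, fok5, fok6, fok7, fok8, fok9, fok10, fok11, fok12, fok13, fok14, fok15, fok16, fok17, fok18, fok19, fok20, fok21, fok22, fok23, fok24, fok25, fok26, fok27, fok28, fok29, fok30, fok31, fok32, fok33, fok34, fok35, fok36, fok37, fok38, fok39, fok40, fok41, fok42, fok43, fok44, fok45, fok46, fok47, fok48, fok49, fok50, fok51, fok52, fok53, fok54, fok55, fok56, fok57, fok58, fok59, fok60, fok61, fok62, fok63, fok64, fok65, fok66, fok67, fok68, fok69, fok70, fok71, fok72, fok73, fok74, fok75, fok76, fok77, fok78, fok79, fok80, fok81, fok82, fok83, fok84, fok85, fok86, fok87, fok88, fok89, fok90, fok91, fok92, fok93, fok94, fok95, fok96, fok97, fok98, fok99, fok100, fok101, fok102, fok103, fok104, fok105, fok106, fok107, fok108, fok109, fok110, fok111, fok112, fok113, fok114, fok115, fok116, fok117, fok118, fok119, fok120, fok121, fok122, fok123, fok124, fok125, fok126, fok127, fok128, fok129, fok130,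 fok131, fok132, fok133, fok134, fok135, fok136, trivial⟩
theorem rules_ok : sys.rules.all (fun R => R.check sys rels subs) = true := by decide +kernel
theorem inv_ok : allRange (fun l => Nat.beq (sys.inv l) l) 0 (sys.nl + 1) = true := by decide +kernel
def D : ℕ := 6320
def N : ℕ := 18044
theorem walk_ok : (sys.walk N walkL walkV 0 target).map Prod.fst = some 0 := by decide +kernel

end Cfsg.Agent.CosetEnum.Fi24.Sp
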