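import Cfsg.Agent.SporB.Fi24.Sp.Data

set_option autoImplicit false
set_option maxRecDepth 100000

namespace Cfsg.Agent.CosetEnum.Fi24.Sp

theorem fok0 : sys.checkFacts 6320 62 fv0 = true := by decide +kernel
theorem fok1 : sys.checkFacts 6382 72 fv1 = true := by decide +kernel
theorem fok2 : sys.checkFacts 6454 77 fv2 = true := by decide +kernel
theorem fok3 : sys.checkFacts 6531 65 fv3 = true := by decide +kernel
theorem fok4 : sys.checkFacts 6596 68 fv4 = true := by decide +kernel
theorem fok5 : sys.checkFacts 6664 64 fv5 = true := by decide +kernel
theorem fok6 : sys.checkFacts 6728 59 fv6 = true := by decide +kernel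
theorem fok7 : sys.checkFacts 6787 58 fv7 = true := by decide +kernel
theorem fok8 : sys.checkFacts 6845 67 fv8 = true := by decide +kernel
theorem fok9 : sys.checkFacts 6912 90 fv9 = true := by decide +kernel
theorem fok10 : sys.checkFacts 7002 99 fv10 = true := by decide +kernel
theorem fok11 : sys.checkFacts 7101 100 fv11 = true := by decide +kernel
theorem fok12 : sys.checkFacts 7201 93 fv12 = true := by decide +kernel
theorem fok13 : sys.checkFacts 7294 93 fv13 = true := by decide +kernel
theorem fok14 : sys.checkFacts 7387 93 fv14 = true := by decide +kernel
theorem fok15 : sys.checkFacts 7480 92 fv15 = true := by decide +kernel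
theorem fok16 : sys.checkFacts 7572 100 fv16 = true := by decide +kernel
theorem fok17 : sys.checkFacts 7672 93 fv17 = true := by decide +kernel
theorem fok18 : sys.checkFacts 7765 93 fv18 = true := by decide +kernel
theorem fok19 : sys.checkFacts 7858 92 fv19 = true := by decide +kernel
theorem fok20 : sys.checkFacts 7950 95 fv20 = true := by decide +kernel
theorem fok21 : sys.checkFacts 8045 88 fv21 = true := by decide +kernel
theorem fok22 : sys.checkFacts 8133 90 fv22 = true := by decide +kernel
theorem fok23 : sys.checkFacts 8223 92 fv23 = true := by decide +kernel
theorem fok24 : sys.checkFacts 8315 99 fv24 = true := by decide +kernel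
theorem fok25 : sys.checkFacts 8414 100 fv25 = true := by decide +kernel
theorem fok26 : sys.checkFacts 8514 92 fv26 = true := by decide +kernel
theorem fok27 : sys.checkFacts 8606 89 fv27 = true := by decide +kernel
theorem fok28 : sys.checkFacts 8695 97 fv28 = true := by decide +kernel
theorem fok29 : sys.checkFacts 8792 92 fv29 = true := by decide +kernel
theorem fok30 : sys.checkFacts 8884 92 fv30 = true := by decide +kernel
theorem fok31 : sys.checkFacts 8976 96 fv31 = true := by decide +kernel
theorem fok32 : sys.checkFacts 9072 97 fv32 = true := by decide +kernel
theorem fok33 : sys.checkFacts 9169 93 fv33 = true := by decide +kernel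
theorem fok34 : sys.checkFacts 9262 94 fv34 = true := by decide +kernel
theorem fok35 : sys.checkFacts 9356 98 fv35 = true := by decide +kernel
theorem fok36 : sys.checkFacts 9454 97 fv36 = true := by decide +kernel
theorem fok37 : sys.checkFacts 9551 89 fv37 = true := by decide +kernel
theorem fok38 : sys.checkFacts 9640 83 fv38 = true := by decide +kernel
theorem fok39 : sys.checkFacts 9723 95 fv39 = true := by decide +kernel
theorem fok40 : sys.checkFacts 9818 90 fv40 = true := by decide +kernel
theorem fok41 : sys.checkFacts 9908 73 fv41 = true := by decide +kernel
theorem fok42 : sys.checkFacts 9981 96 fv42 = true := by decide +kernel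
theorem fok43 : sys.checkFacts 10077 99 fv43 = true := by decide +kernel
theorem fok44 : sys.checkFacts 10176 96 fv44 = true := by decide +kernel
theorem fok45 : sys.checkFacts 10272 93 fv45 = true := by decide +kernel
theorem fok46 : sys.checkFacts 10365 94 fv46 = true := by decide +kernel
theorem fok47 : sys.checkFacts 10459 94 fv47 = true := by decide +kernel
theorem fok48 : sys.checkFacts 10553 96 fv48 = true := by decide +kernel
theorem fok49 : sys.checkFacts 10649 94 fv49 = true := by decide +kernel
theorem fok50 : sys.checkFacts 10743 86 fv50 = true := by decide +kernel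
theorem fok51 : sys.checkFacts 10829 74 fv51 = true := by decide +kernel
theorem fok52 : sys.checkFacts 10903 89 fv52 = true := by decide +kernel
theorem fok53 : sys.checkFacts 10992 92 fv53 = true := by decide +kernel
theorem fok54 : sys.checkFacts 11084 83 fv54 = true := by decide +kernel
theorem fok55 : sys.checkFacts 11167 84 fv55 = true := by decide +kernel
theorem fok56 : sys.checkFacts 11251 76 fv56 = true := by decide +kernel
theorem fok57 : sys.checkFacts 11327 65 fv57 = true := by decide +kernel
theorem fok58 : sys.checkFacts 11392 87 fv58 = true := by decide +kernel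
theorem fok59 : sys.checkFacts 11479 36 fv59 = true := by decide +kernel

end Cfsg.Agent.CosetEnum.Fi24.Sp
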